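import Groth.Agent.FlatUnib.Core

/-!
# Flatness over unibranch local domains (EGA IV 11.5.4): descent through a henselization
-/

set_option autoImplicit false
set_option linter.style.haveILetI false

universe u

open TensorProduct IsLocalRing Groth.Agent.FlatLocusIdeal

attribute [local instance] Algebra.TensorProduct.rightAlgebra

namespace Groth.Agent.FlatUnib

variable {A A' B H A'' : Type u} [CommRing A] [CommRing A'] [CommRing B] [CommRing H] [CommRing A'']
    [Algebra A A'] [Algebra A B] [Algebra A H] [Algebra A A''] [Algebra A' A''] [Algebra H A'']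
    [IsScalarTower A A' A''] [IsScalarTower A H A'']

/-- Primes of the two-step base change and their traces on the one-step base change. -/
theorem exists_transfer :
    ∃ (g : A' ⊗[A] B →+* A'' ⊗[H] (H ⊗[A] B)),
      g.comp (algebraMap A' _) = (algebraMap A'' _).comp (algebraMap A' A'') ∧
      g.comp (algebraMap B _) = (algebraMap (H ⊗[A] B) _).comp (algebraMap B (H ⊗[A] B)) ∧
      (∀ (P'' : Ideal (A'' ⊗[H] (H ⊗[A] B))) [P''.IsPrime],
        FlatCA.FlatAt A' (P''.comap g) (A' ⊗[A] B) → FlatCA.FlatAt A'' P'' (A'' ⊗[H] (H ⊗[A] B))) ∧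
      (∀ (p' : Ideal A') [p'.IsPrime] (P' : Ideal (A' ⊗[A] B)) [P'.IsPrime] (p'' : Ideal A'') [p''.IsPrime],
        P'.comap (algebraMap A' _) = p' → p''.comap (algebraMap A' A'') = p' →
        ∃ P'' : Ideal (A'' ⊗[H] (H ⊗[A] B)), P''.IsPrime ∧ P''.comap g = P' ∧ P''.comap (algebraMap A'' _) = p'') := by
  let S' := A' ⊗[A] B
  let T := H ⊗[A] B
  let S'' := A'' ⊗[H] T
  letI : Algebra B S'' := ((algebraMap T S'').comp (algebraMap B T)).toAlgebra
  haveI : IsScalarTower B T S'' := IsScalarTower.of_algebraMap_eq fun _ => rfl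
  haveI : IsScalarTower A B S'' := IsScalarTower.of_algebraMap_eq fun a => by
    rw [IsScalarTower.algebraMap_apply B T S'', ← IsScalarTower.algebraMap_apply A B T,
      IsScalarTower.algebraMap_apply A H T, ← IsScalarTower.algebraMap_apply H T S'',
      IsScalarTower.algebraMap_apply A A'' S'', IsScalarTower.algebraMap_apply A H A'',
      ← IsScalarTower.algebraMap_apply H A'' S'']
  let g : S' →ₐ[A] S'' := Algebra.TensorProduct.lift
    ((IsScalarTower.toAlgHom A A'' S'').comp (IsScalarTower.toAlgHom A A' A'')) (IsScalarTower.toAlgHom A B S'')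
    fun _ _ => Commute.all _ _
  haveI : IsScalarTower A' A'' S'' := inferInstance
  letI : Algebra S' S'' := g.toRingHom.toAlgebra
  have h1 : ∀ a : A', algebraMap S' S'' (algebraMap A' S' a) = algebraMap A'' S'' (algebraMap A' A'' a) := fun a => by
    show Algebra.TensorProduct.lift _ _ _ (a ⊗ₜ[A] (1 : B)) = _
    rw [Algebra.TensorProduct.lift_tmul, map_one, mul_one]
    rfl
  have h2 : ∀ b : B, algebraMap S' S'' (algebraMap B S' b) = algebraMap B S'' b := fun b => by
    show Algebra.TensorProduct.lift _ _ _ ((1 : A') ⊗ₜ[A] b) = _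
    rw [Algebra.TensorProduct.lift_tmul, map_one, one_mul]
    rfl
  haveI : IsScalarTower A' S' S'' := IsScalarTower.of_algebraMap_eq fun a => (h1 a).symm
  haveI : IsScalarTower B S' S'' := IsScalarTower.of_algebraMap_eq fun b => (h2 b).symm
  haveI : IsScalarTower A A' S'' := IsScalarTower.of_algebraMap_eq (R := A) (S := A') (A := S'') fun a => by
    refine (IsScalarTower.algebraMap_apply A A'' S'' a).trans ?_
    rw [IsScalarTower.algebraMap_apply A A' A'', ← IsScalarTower.algebraMap_apply A' A'' S'']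
  haveI : IsScalarTower A S' S'' := IsScalarTower.of_algebraMap_eq fun a => (g.commutes a).symm
  haveI : IsScalarTower A H S'' := inferInstance
  haveI : IsScalarTower A T S'' := IsScalarTower.of_algebraMap_eq fun a => by
    rw [IsScalarTower.algebraMap_apply A H T, ← IsScalarTower.algebraMap_apply H T S'',
      ← IsScalarTower.algebraMap_apply A H S'']
  haveI : Algebra.IsPushout A A' B S' := inferInstance
  haveI : Algebra.IsPushout A H B T := inferInstance
  haveI : Algebra.IsPushout H A'' T S'' := inferInstance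
  haveI hp1 : Algebra.IsPushout A A'' B S'' :=
    (Algebra.IsPushout.comp_iff (R := A) (S := H) (R' := B) (S' := T) (T := A'') (T' := S'')).mpr inferInstance
  haveI hp2 : Algebra.IsPushout A' A'' S' S'' :=
    (Algebra.IsPushout.comp_iff (R := A) (S := A') (R' := B) (S' := S') (T := A'') (T' := S'')).mp hp1
  haveI hp3 : Algebra.IsPushout A' S' A'' S'' := Algebra.IsPushout.symm hp2
  refine ⟨algebraMap S' S'', RingHom.ext h1, RingHom.ext fun b => (h2 b).trans rfl, fun P'' _ hf => ?_,
    fun p' _ P' _ p'' _ hP' hp'' => ?_⟩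
  · exact FlatMor.FlatAtBC.flatAt_of_baseChange (R := A') (S := S') (R' := A'') (S' := S'') (Algebra.linearMap S' S'')
      (IsBaseChange.linearMap S' S'') (P''.comap (algebraMap S' S'')) P'' rfl hf
  · exact FlatMor.FlatAtBC.exists_prime_of_pushout (R := A') (S := S') (R' := A'') (S' := S'') p' P' p'' hP' hp''

omit [CommRing A''] [Algebra A A''] [Algebra A' A''] [Algebra H A''] [IsScalarTower A A' A''] [IsScalarTower A H A''] in
/-- Flatness descends from the base change over a flat local extension. -/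
theorem flatAt_of_flat_ext [IsLocalRing A] [IsLocalRing H] [Module.Flat A H] (q : Ideal B) [q.IsPrime]
    (Q : Ideal (H ⊗[A] B)) [Q.IsPrime] (hQ : Q.comap (algebraMap B (H ⊗[A] B)) = q)
    (hQm : Q.comap (algebraMap H (H ⊗[A] B)) = maximalIdeal H) (h : FlatCA.FlatAt H Q (H ⊗[A] B)) :
    FlatCA.FlatAt A q B := by
  haveI : Algebra.IsPushout A B H (H ⊗[A] B) := Algebra.IsPushout.symm inferInstance
  haveI : Module.Flat H (Localization.AtPrime (maximalIdeal H)) := IsLocalization.flat _ (maximalIdeal H).primeCompl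
  exact FlatMor.FlatAtBC.flatAt_of_descent (R := A) (S := B) (R' := H) (S' := H ⊗[A] B) (M := B) (M' := H ⊗[A] B)
    (Algebra.linearMap B (H ⊗[A] B)) (IsBaseChange.linearMap B (H ⊗[A] B)) q Q hQ (maximalIdeal H) hQm
    (Module.Flat.trans A H _) h

omit [CommRing A''] [Algebra A A''] [Algebra A' A''] [Algebra H A''] [IsScalarTower A A' A''] [IsScalarTower A H A''] in
/-- A prime over a maximal ideal and a closed point is maximal. -/
theorem isMaximal_of_over [IsLocalRing A] [IsLocalRing H] [Algebra.FiniteType A B] (q : Ideal B) [q.IsMaximal]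
    [q.LiesOver (maximalIdeal A)] (Q : Ideal (H ⊗[A] B)) [Q.IsPrime]
    (hQ : Q.comap (algebraMap B (H ⊗[A] B)) = q) (hQm : Q.comap (algebraMap H (H ⊗[A] B)) = maximalIdeal H) :
    Q.IsMaximal := by
  let k := ResidueField A
  let C := B ⧸ q
  letI : Field C := Ideal.Quotient.field q
  let j : k →+* C := Ideal.Quotient.lift (maximalIdeal A) (algebraMap A C) fun a ha => by
    rw [IsScalarTower.algebraMap_apply A B C, Ideal.Quotient.algebraMap_eq, Ideal.Quotient.eq_zero_iff_mem]
    exact (q.over_def (maximalIdeal A)).le ha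
  letI : Algebra k C := j.toAlgebra
  haveI : IsScalarTower A k C := IsScalarTower.of_algebraMap_eq fun a => rfl
  haveI : Algebra.FiniteType k C := Algebra.FiniteType.of_restrictScalars_finiteType A k C
  haveI : Module.Finite k C := finite_of_finite_type_of_isJacobsonRing k C
  haveI : Module.Finite A k := Module.Finite.of_surjective (Algebra.linearMap A k) residue_surjective
  haveI : Module.Finite A C := Module.Finite.trans k C
  let D := (H ⊗[A] B) ⧸ Q
  let i₁ : C →ₐ[A] D := Ideal.Quotient.liftₐ q ((Ideal.Quotient.mkₐ A Q).comp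
    (Algebra.TensorProduct.includeRight (R := A) (A := H) (B := B))) fun b hb =>
      Ideal.Quotient.eq_zero_iff_mem.mpr (Ideal.mem_comap.mp (hQ.ge hb))
  let L : H ⊗[A] C →ₐ[H] D := Algebra.TensorProduct.lift (Algebra.ofId H D) i₁ fun _ _ => Commute.all _ _
  have hL : Function.Surjective L.toLinearMap := by
    intro d
    obtain ⟨z, rfl⟩ := Ideal.Quotient.mk_surjective d
    induction z using TensorProduct.induction_on with
    | zero => exact ⟨0, by simp⟩
    | tmul x b =>
      refine ⟨x ⊗ₜ[A] (Ideal.Quotient.mk q b), ?_⟩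
      rw [AlgHom.toLinearMap_apply, Algebra.TensorProduct.lift_tmul]
      show Ideal.Quotient.mk Q (algebraMap H _ x) * Ideal.Quotient.mk Q (algebraMap B _ b) = _
      rw [← map_mul]
      congr 1
      show (x ⊗ₜ[A] (1 : B)) * ((1 : H) ⊗ₜ[A] b) = _
      rw [Algebra.TensorProduct.tmul_mul_tmul, mul_one, one_mul]
    | add x y hx hy =>
      obtain ⟨a, ha⟩ := hx
      obtain ⟨b, hb⟩ := hy
      exact ⟨a + b, by rw [map_add, ha, hb, map_add]⟩
  haveI : Module.Finite H D := Module.Finite.of_surjective L.toLinearMap hL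
  haveI : IsDomain D := Ideal.Quotient.isDomain Q
  have hb : (⊥ : Ideal D).IsMaximal := Ideal.isMaximal_of_isIntegral_of_isMaximal_comap (R := H) ⊥ (by
    rw [← RingHom.ker_eq_comap_bot,
      show RingHom.ker (algebraMap H D) = maximalIdeal H from (Ideal.ext fun x => by
        rw [RingHom.mem_ker, IsScalarTower.algebraMap_apply H (H ⊗[A] B) D, Ideal.Quotient.algebraMap_eq,
          Ideal.Quotient.eq_zero_iff_mem, ← hQm, Ideal.mem_comap])]
    exact IsLocalRing.maximalIdeal.isMaximal H)
  have := Ideal.comap_isMaximal_of_surjective (Ideal.Quotient.mk Q) Ideal.Quotient.mk_surjective (K := ⊥)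
  rwa [← RingHom.ker_eq_comap_bot, Ideal.mk_ker] at this

omit [CommRing A''] [Algebra A A''] [Algebra A' A''] [Algebra H A''] [IsScalarTower A A' A''] [IsScalarTower A H A''] in
/-- Descent of flatness through an étale-like henselian domain. -/
theorem flatAt_of_etLike [IsDomain A] [IsLocalRing A] [IsLocalRing A'] [IsLocalHom (algebraMap A A')]
    (hinj : Function.Injective (algebraMap A A')) [HenselianLocalRing H] [IsDomain H]
    (hH : Groth.Agent.Hensel.IsEtLike A H) [Algebra.FinitePresentation A B] (q : Ideal B) [q.IsPrime]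
    [q.LiesOver (maximalIdeal A)]
    (h : (Function.Surjective ((residue H).comp (algebraMap A H)) ∧ ∀ (P : Ideal (A' ⊗[A] B)) [P.IsPrime],
            P.comap (algebraMap B _) = q → P.comap (algebraMap A' _) = maximalIdeal A' →
            FlatCA.FlatAt A' P (A' ⊗[A] B)) ∨
         (IsSepClosed (ResidueField H) ∧ q.IsMaximal ∧ ∃ (P : Ideal (A' ⊗[A] B)) (_ : P.IsPrime),
            P.comap (algebraMap B _) = q ∧ P.comap (algebraMap A' _) = maximalIdeal A' ∧
            FlatCA.FlatAt A' P (A' ⊗[A] B))) : FlatCA.FlatAt A q B := by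
  haveI := hH.flat
  haveI := hH.isLocalHom
  obtain ⟨M'', hM'', hM₁, hM₂⟩ := FlatMor.FlatAtBC.exists_prime_of_pushout (R := A) (S := H) (R' := A')
    (S' := A' ⊗[A] H) (maximalIdeal A) (maximalIdeal H) (maximalIdeal A')
    (IsLocalRing.maximalIdeal_comap _) (IsLocalRing.maximalIdeal_comap _)
  haveI := hM''
  let A₂ := Localization.AtPrime M''
  have hc : (maximalIdeal A₂).comap (algebraMap (A' ⊗[A] H) A₂) = M'' :=
    IsLocalization.AtPrime.under_maximalIdeal A₂ M''
  have hc' : (maximalIdeal A₂).comap (algebraMap A' A₂) = maximalIdeal A' := by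
    rw [IsScalarTower.algebraMap_eq A' (A' ⊗[A] H) A₂, ← Ideal.comap_comap, hc, hM₂]
  have hcH : (maximalIdeal A₂).comap (algebraMap H A₂) = maximalIdeal H := by
    rw [IsScalarTower.algebraMap_eq H (A' ⊗[A] H) A₂, ← Ideal.comap_comap, hc, hM₁]
  haveI : IsLocalHom (algebraMap H A₂) := ((IsLocalRing.local_hom_TFAE (algebraMap H A₂)).out 4 0).mp hcH
  haveI : IsLocalHom (algebraMap A' A₂) := ((IsLocalRing.local_hom_TFAE (algebraMap A' A₂)).out 4 0).mp hc'
  haveI : Module.Flat (A' ⊗[A] H) A₂ := IsLocalization.flat A₂ M''.primeCompl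
  haveI : Module.Flat A' A₂ := Module.Flat.trans A' (A' ⊗[A] H) A₂
  haveI : Module.FaithfullyFlat A' A₂ := Module.FaithfullyFlat.of_flat_of_isLocalHom
  have hinj₂ : Function.Injective (algebraMap A A₂) := by
    rw [IsScalarTower.algebraMap_eq A A' A₂]
    exact (FaithfulSMul.algebraMap_injective A' A₂).comp hinj
  have hHinj := injective_of_isEtLike hH (C := A₂) hinj₂
  obtain ⟨g, hg₁, hg₂, hflat, hex⟩ := exists_transfer (A := A) (A' := A') (B := B) (H := H) (A'' := A₂)
  suffices ∃ (Q : Ideal (H ⊗[A] B)) (_ : Q.IsPrime), Q.comap (algebraMap B (H ⊗[A] B)) = q ∧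
      Q.comap (algebraMap H (H ⊗[A] B)) = maximalIdeal H ∧
      ∀ (P'' : Ideal (A₂ ⊗[H] (H ⊗[A] B))) [P''.IsPrime],
        P''.comap (algebraMap (H ⊗[A] B) (A₂ ⊗[H] (H ⊗[A] B))) = Q →
        P''.comap (algebraMap A₂ (A₂ ⊗[H] (H ⊗[A] B))) = maximalIdeal A₂ →
        @FlatCA.FlatAt A₂ (A₂ ⊗[H] (H ⊗[A] B)) _ _ _ P'' _ (A₂ ⊗[H] (H ⊗[A] B)) _ _ _ _ by
    obtain ⟨Q, hQ, hQq, hQm, hall⟩ := this
    haveI := hQ
    haveI : Q.LiesOver (maximalIdeal H) := ⟨hQm.symm⟩
    exact flatAt_of_flat_ext q Q hQq hQm (flatAt_of_injective Q A₂ hHinj (fun P _ a b => hall P a b))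
  have hcontr : ∀ (P'' : Ideal (A₂ ⊗[H] (H ⊗[A] B))) (Q : Ideal (H ⊗[A] B)), Q.comap (algebraMap B _) = q →
      P''.comap (algebraMap (H ⊗[A] B) _) = Q → P''.comap (algebraMap A₂ _) = maximalIdeal A₂ →
      (P''.comap g).comap (algebraMap B _) = q ∧ (P''.comap g).comap (algebraMap A' _) = maximalIdeal A' := by
    intro P'' Q hQ h1 h2
    constructor
    · rw [Ideal.comap_comap, hg₂, ← Ideal.comap_comap, h1, hQ]
    · rw [Ideal.comap_comap, hg₁, ← Ideal.comap_comap, h2, hc']
  rcases h with ⟨hres, hall⟩ | ⟨hsep, hmax, P, hP, hPq, hPm, hPflat⟩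
  · obtain ⟨Q, hQ, hQq, hQm⟩ := exists_prime (A := A) q H
    exact ⟨Q, hQ, hQq, hQm, fun P'' _ h1 h2 => hflat P''
      (hall _ (hcontr P'' Q hQq h1 h2).1 (hcontr P'' Q hQq h1 h2).2)⟩
  · haveI := hP
    haveI := hsep
    haveI := hmax
    obtain ⟨P₀, hP₀, hP₀P, hP₀m⟩ := hex (maximalIdeal A') P (maximalIdeal A₂) hPm hc'
    haveI := hP₀
    let Q := P₀.comap (algebraMap (H ⊗[A] B) (A₂ ⊗[H] (H ⊗[A] B)))
    haveI : Q.IsPrime := Ideal.comap_isPrime _ _
    have hQq : Q.comap (algebraMap B (H ⊗[A] B)) = q := by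
      rw [Ideal.comap_comap, ← hg₂, ← Ideal.comap_comap, hP₀P, hPq]
    have hQm : Q.comap (algebraMap H (H ⊗[A] B)) = maximalIdeal H := by
      rw [Ideal.comap_comap, ← IsScalarTower.algebraMap_eq, IsScalarTower.algebraMap_eq H A₂ (A₂ ⊗[H] (H ⊗[A] B)),
        ← Ideal.comap_comap, hP₀m, hcH]
    haveI : Q.LiesOver (maximalIdeal H) := ⟨hQm.symm⟩
    haveI : Q.IsMaximal := isMaximal_of_over (A := A) q Q hQq hQm
    refine ⟨Q, inferInstance, hQq, hQm, fun P'' _ h1 h2 => ?_⟩
    obtain rfl : P'' = P₀ := prime_unique Q P'' P₀ h1 h2 rfl hP₀m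
    refine hflat P'' ?_
    subst hP₀P
    exact hPflat

end Groth.Agent.FlatUnib
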