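import Groth.Agent.FlatUnib.Assemble
import Groth.Agent.FlatOpen.CMAffine

/-!
# Flatness over unibranch local domains: the chart
-/

set_option autoImplicit false
set_option linter.style.haveILetI false

universe u

open CategoryTheory CategoryTheory.Limits AlgebraicGeometry
open scoped TensorProduct

attribute [local instance] Algebra.TensorProduct.rightAlgebra

namespace Groth.Agent.FlatUnib

/-- Flatness at a prime and flatness of the local ring. -/
theorem flatAt_iff_loc (R S : Type u) [CommRing R] [CommRing S] [Algebra R S] (q : Ideal S) [q.IsPrime] :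
    FlatCA.FlatAt R q S ↔ Module.Flat R (Localization.AtPrime q) := by
  let e := (IsLocalizedModule.iso q.primeCompl (Algebra.linearMap S (Localization.AtPrime q))).restrictScalars R
  exact ⟨fun h => (haveI : Module.Flat R (LocalizedModule q.primeCompl S) := h; Module.Flat.of_linearEquiv e.symm),
    fun h => Module.Flat.of_linearEquiv e⟩

/-- Flatness of the stalk map of a morphism of affine schemes. -/
theorem stalkMap_flat_iff_flatAt (R S : Type u) [CommRing R] [CommRing S] [Algebra R S] (q : PrimeSpectrum S) :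
    ((Spec.map (CommRingCat.ofHom (algebraMap R S))).stalkMap q).hom.Flat ↔ FlatCA.FlatAt R q.asIdeal S := by
  rw [flatAt_iff_loc, Groth.Agent.FlatOpen.CMAffine.stalkMap_flat_iff_Spec (CommRingCat.ofHom (algebraMap R S)) q]
  have e : (CommRingCat.ofHom (algebraMap R S)).hom.toAlgebra = (inferInstance : Algebra R S) :=
    Algebra.algebra_ext _ _ fun _ => rfl
  convert Iff.rfl <;> exact e.symm

/-- Flatness read on an affine chart of `X` around `x` and its base change. -/
theorem exists_chart {A A' : Type u} [CommRing A] [IsLocalRing A] [CommRing A'] [IsLocalRing A'] [Algebra A A']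
    {X : Scheme.{u}} (f : X ⟶ Spec (CommRingCat.of A)) [LocallyOfFinitePresentation f] (x : X)
    (hx : f.base x = IsLocalRing.closedPoint A) :
    ∃ (B : Type u) (_ : CommRing B) (_ : Algebra A B) (_ : Algebra.FinitePresentation A B) (q : Ideal B)
      (_ : q.IsPrime) (_ : q.LiesOver (IsLocalRing.maximalIdeal A)),
      (FlatCA.FlatAt A q B → (f.stalkMap x).hom.Flat) ∧
      (∀ (P : Ideal (A' ⊗[A] B)) [P.IsPrime], P.comap (algebraMap B (A' ⊗[A] B)) = q →
        P.comap (algebraMap A' (A' ⊗[A] B)) = IsLocalRing.maximalIdeal A' →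
        ∃ x' : ↥(pullback f (Spec.map (CommRingCat.ofHom (algebraMap A A')))),
          (pullback.fst f _).base x' = x ∧
          (pullback.snd f (Spec.map (CommRingCat.ofHom (algebraMap A A')))).base x' = IsLocalRing.closedPoint A' ∧
          (((pullback.snd f (Spec.map (CommRingCat.ofHom (algebraMap A A')))).stalkMap x').hom.Flat →
            FlatCA.FlatAt A' P (A' ⊗[A] B))) ∧
      (∀ x' : ↥(pullback f (Spec.map (CommRingCat.ofHom (algebraMap A A')))),
        (pullback.fst f _).base x' = x →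
        (pullback.snd f (Spec.map (CommRingCat.ofHom (algebraMap A A')))).base x' = IsLocalRing.closedPoint A' →
        ((pullback.snd f (Spec.map (CommRingCat.ofHom (algebraMap A A')))).stalkMap x').hom.Flat →
        ∃ (P : Ideal (A' ⊗[A] B)) (_ : P.IsPrime), P.comap (algebraMap B (A' ⊗[A] B)) = q ∧
          P.comap (algebraMap A' (A' ⊗[A] B)) = IsLocalRing.maximalIdeal A' ∧ FlatCA.FlatAt A' P (A' ⊗[A] B)) := by
  obtain ⟨U, hU, hxU, -⟩ := exists_isAffineOpen_mem_and_subset (x := x) (U := ⊤) trivial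
  let B := Γ(X, U)
  let j := hU.fromSpec
  let φ := Spec.preimage (j ≫ f)
  have hφ : Spec.map φ = j ≫ f := Spec.map_preimage _
  letI : Algebra A B := φ.hom.toAlgebra
  have hφ' : Spec.map (CommRingCat.ofHom (algebraMap A B)) = j ≫ f := hφ
  haveI : Algebra.FinitePresentation A B := by
    have : LocallyOfFinitePresentation (Spec.map φ) := hφ ▸ inferInstance
    rwa [HasRingHomProperty.Spec_iff (P := @LocallyOfFinitePresentation)] at this
  let q := hU.primeIdealOf ⟨x, hxU⟩
  have hjq : j q = x := hU.fromSpec_primeIdealOf _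
  have hqm : q.asIdeal.comap (algebraMap A B) = IsLocalRing.maximalIdeal A := by
    have h1 : (Spec.map (CommRingCat.ofHom (algebraMap A B))) q = IsLocalRing.closedPoint A := by
      rw [hφ']
      show f.base (j q) = _
      rw [hjq]
      exact hx
    exact congrArg PrimeSpectrum.asIdeal h1
  let ι := Spec.map (CommRingCat.ofHom (algebraMap A A'))
  let ι' := Spec.map (CommRingCat.ofHom (algebraMap A B))
  let b : Spec (CommRingCat.of (A' ⊗[A] B)) ⟶ pullback f ι :=
    (pullbackSpecIso A A' B).inv ≫ (pullbackSymmetry ι ι').hom ≫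
      pullback.map ι' ι f ι j (𝟙 _) (𝟙 _) (by simp [ι', hφ']) (by simp)
  haveI : IsOpenImmersion (pullback.map ι' ι f ι j (𝟙 _) (𝟙 _) (by simp [ι', hφ']) (by simp)) := inferInstance
  haveI : IsOpenImmersion b := inferInstance
  have hb₁ : b ≫ pullback.fst f ι =
      Spec.map (CommRingCat.ofHom (algebraMap B (A' ⊗[A] B))) ≫ j := by
    simp only [b, Category.assoc, pullback.lift_fst, pullback.map, pullbackSymmetry_hom_comp_fst_assoc,
      pullbackSymmetry_hom_comp_fst_assoc]
    rw [← Category.assoc]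
    congr 1
    exact pullbackSpecIso_inv_snd A A' B
  have hb₂ : b ≫ pullback.snd f ι = Spec.map (CommRingCat.ofHom (algebraMap A' (A' ⊗[A] B))) := by
    simp only [b, Category.assoc, pullback.lift_snd, pullback.map, Category.comp_id,
      pullbackSymmetry_hom_comp_snd]
    exact pullbackSpecIso_inv_fst' A A' B
  have hpt : ∀ P : PrimeSpectrum (A' ⊗[A] B),
      ((pullback.fst f ι) (b P) = x ↔ P.asIdeal.comap (algebraMap B (A' ⊗[A] B)) = q.asIdeal) ∧
      ((pullback.snd f ι) (b P) = IsLocalRing.closedPoint A' ↔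
        P.asIdeal.comap (algebraMap A' (A' ⊗[A] B)) = IsLocalRing.maximalIdeal A') ∧
      (((pullback.snd f ι).stalkMap (b P)).hom.Flat ↔ FlatCA.FlatAt A' P.asIdeal (A' ⊗[A] B)) := by
    intro P
    refine ⟨?_, ?_, ?_⟩
    · show (b ≫ pullback.fst f ι) P = x ↔ _
      rw [hb₁]
      show j ((Spec.map (CommRingCat.ofHom (algebraMap B (A' ⊗[A] B)))) P) = x ↔ _
      rw [← hjq]
      exact (j.isOpenEmbedding.injective.eq_iff).trans PrimeSpectrum.ext_iff
    · show (b ≫ pullback.snd f ι) P = _ ↔ _
      rw [hb₂]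
      exact PrimeSpectrum.ext_iff
    · rw [← stalkMap_flat_iff_flatAt, ← Groth.Agent.FlatOpen.CMAffine.stalkMap_flat_comp_iff b (pullback.snd f ι) P, hb₂]
  refine ⟨B, inferInstance, inferInstance, inferInstance, q.asIdeal, q.isPrime, ⟨hqm.symm⟩, fun h => ?_,
    fun P hP h1 h2 => ?_, fun x' h1 h2 h3 => ?_⟩
  · rw [← hjq, ← Groth.Agent.FlatOpen.CMAffine.stalkMap_flat_comp_iff j f q, ← hφ', stalkMap_flat_iff_flatAt]
    exact h
  · exact ⟨b ⟨P, hP⟩, (hpt ⟨P, hP⟩).1.mpr h1, (hpt ⟨P, hP⟩).2.1.mpr h2, (hpt ⟨P, hP⟩).2.2.mp⟩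
  · have hr : x' ∈ Set.range b := by
      have hr' : x' ∈ Set.range (pullback.map ι' ι f ι j (𝟙 _) (𝟙 _) (by simp [ι', hφ']) (by simp)) := by
        rw [Scheme.Pullback.range_map]
        exact ⟨⟨q, hjq.trans h1.symm⟩, ⟨_, rfl⟩⟩
      obtain ⟨z, hz⟩ := hr'
      refine ⟨((pullbackSymmetry ι ι').inv ≫ (pullbackSpecIso A A' B).hom) z, ?_⟩
      rw [← hz, ← Scheme.Hom.comp_apply]
      congr 1
      simp [b]
    obtain ⟨P, rfl⟩ := hr
    exact ⟨P.asIdeal, P.isPrime, (hpt P).1.mp h1, (hpt P).2.1.mp h2, (hpt P).2.2.mp h3⟩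

end Groth.Agent.FlatUnib
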