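import Groth.Agent.S1229
import Groth.Agent.Hensel.EtLike
import Groth.Agent.FlatMor.FlatAtBC
import Groth.Agent.FlatOpen.API
import Mathlib.RingTheory.Ideal.MinimalPrime.Localization
import Mathlib.FieldTheory.PurelyInseparable.Basic

/-!
# Flatness over unibranch local domains (EGA IV 11.5.4): algebraic part
-/

set_option autoImplicit false
set_option linter.style.haveILetI false

universe u

open TensorProduct IsLocalRing Groth.Agent.FlatLocusIdeal

attribute [local instance] Algebra.TensorProduct.rightAlgebra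

namespace Groth.Agent.FlatUnib

/-- Flatness at a prime of an algebra and of the tensor product with itself. -/
theorem flatAt_tensor_self {R S T : Type u} [CommRing R] [CommRing S] [CommRing T] [Algebra T S] [Algebra R S]
    (q : Ideal S) [q.IsPrime] : FlatCA.FlatAt R q S ↔ FlatCA.FlatAt R q (S ⊗[T] T) := by
  haveI : q.LiesOver q := ⟨(Ideal.comap_id q).symm⟩
  exact flatAt_iff_tensor (A' := R) (B := T) (B₁ := S) (B₂ := S) T S (Algebra.linearMap T S)
    (IsBaseChange.linearMap T S) q q

/-- The flattening ideal of a finite type algebra at a point of the closed fibre. -/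
theorem exists_ideal {H T : Type u} [CommRing H] [HenselianLocalRing H] [CommRing T] [Algebra H T]
    [Algebra.FiniteType H T] (Q : Ideal T) [Q.IsPrime] [Q.LiesOver (maximalIdeal H)] :
    ∃ I : Ideal H, ∀ (A' : Type u) [CommRing A'] [IsLocalRing A'] [Algebra H A'] [IsLocalHom (algebraMap H A')],
      Good H Q T A' ↔ I.map (algebraMap H A') = ⊥ := by
  let B := Localization.AtPrime Q
  have hQB : (maximalIdeal B).comap (algebraMap T B) = Q := IsLocalization.AtPrime.under_maximalIdeal B Q
  haveI : IsLocalHom (algebraMap H B) := by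
    refine ((IsLocalRing.local_hom_TFAE (algebraMap H B)).out 4 0).mp ?_
    refine Eq.trans ?_ (Q.over_def (maximalIdeal H)).symm
    rw [IsScalarTower.algebraMap_eq H T B, ← Ideal.comap_comap, hQB]
  obtain ⟨x, hx, hx'⟩ := Groth.Agent.S1229.mem_support (A := H) (S := T) (B := B) (N := T) (M := B)
    (Algebra.linearMap T B)
    (top_le_iff.mp fun b _ => by
      rw [show b = b • (Algebra.linearMap T B 1) from by simp]
      exact Submodule.smul_mem _ _ (Submodule.subset_span ⟨1, rfl⟩))
  exact Groth.Agent.S1229.hasIdeal_of_supp (A := H) (S := T) T Q ⟨x, hx, hx'.trans (by congr 1)⟩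

/-- Flatness above the closed points descends along a flat local base change. -/
theorem flatAt_of_good {H T A' : Type u} [CommRing H] [IsLocalRing H] [CommRing T] [Algebra H T]
    [CommRing A'] [IsLocalRing A'] [Algebra H A'] [IsLocalHom (algebraMap H A')] [Module.Flat H A']
    (Q : Ideal T) [Q.IsPrime] [Q.LiesOver (maximalIdeal H)] (hH : Good H Q T A') : FlatCA.FlatAt H Q T := by
  obtain ⟨P, hP, hPQ, hPm⟩ := exists_prime (A := H) Q A'
  haveI := hP
  haveI : Algebra.IsPushout H T A' (A' ⊗[H] T) := Algebra.IsPushout.symm inferInstance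
  haveI : Module.Flat A' (Localization.AtPrime (maximalIdeal A')) :=
    IsLocalization.flat _ (maximalIdeal A').primeCompl
  exact FlatMor.FlatAtBC.flatAt_of_descent (R := H) (S := T) (R' := A') (S' := A' ⊗[H] T) (M := T)
    (M' := (A' ⊗[H] T) ⊗[T] T) (TensorProduct.mk T (A' ⊗[H] T) T 1)
    (TensorProduct.isBaseChange T T (A' ⊗[H] T)) Q P hPQ (maximalIdeal A') hPm
    (Module.Flat.trans H A' _) (hH P hPQ hPm)

/-- Over a henselian local ring, flatness after an injective local base change descends. -/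
theorem flatAt_of_injective {H T : Type u} [CommRing H] [HenselianLocalRing H] [CommRing T] [Algebra H T]
    [Algebra.FiniteType H T] (Q : Ideal T) [Q.IsPrime] [Q.LiesOver (maximalIdeal H)]
    (A' : Type u) [CommRing A'] [IsLocalRing A'] [Algebra H A'] [IsLocalHom (algebraMap H A')]
    (hinj : Function.Injective (algebraMap H A'))
    (h : ∀ (P : Ideal (A' ⊗[H] T)) [P.IsPrime], P.comap (algebraMap T (A' ⊗[H] T)) = Q →
      P.comap (algebraMap A' (A' ⊗[H] T)) = maximalIdeal A' → FlatCA.FlatAt A' P (A' ⊗[H] T)) :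
    FlatCA.FlatAt H Q T := by
  obtain ⟨I, hI⟩ := exists_ideal (H := H) Q
  have hgood : Good H Q T A' := fun P _ h1 h2 =>
    (flatAt_tensor_self (R := A') (S := A' ⊗[H] T) (T := T) P).mp (h P h1 h2)
  have hI0 : I = ⊥ := (Ideal.map_eq_bot_iff_of_injective hinj).mp ((hI A').mp hgood)
  haveI : IsLocalHom (algebraMap H H) := ⟨fun _ h => h⟩
  exact flatAt_of_good (A' := H) Q ((hI H).mpr (by rw [hI0, Ideal.map_bot]))

/-- An étale-like domain over a domain embeds into every extension of it in which the base embeds. -/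
theorem injective_of_isEtLike {A H C : Type u} [CommRing A] [IsDomain A] [IsLocalRing A] [CommRing H] [IsLocalRing H]
    [IsDomain H] [Algebra A H] (hH : Groth.Agent.Hensel.IsEtLike A H) [CommRing C] [Algebra A C] [Algebra H C]
    [IsScalarTower A H C] (hinj : Function.Injective (algebraMap A C)) :
    Function.Injective (algebraMap H C) := by
  have hbot : (⊥ : Ideal A) ∈ minimalPrimes A := by
    rw [IsDomain.minimalPrimes_eq_singleton_bot]
    exact Set.mem_singleton _
  obtain ⟨P, hP, hc⟩ := Ideal.exists_comap_eq_of_mem_minimalPrimes_of_injective hinj ⊥ hbot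
  haveI := hP
  have h0 : (⊥ : Ideal H) = P.comap (algebraMap H C) := hH.eq_of_le_of_comap_eq bot_le (by
    rw [Ideal.comap_comap, ← IsScalarTower.algebraMap_eq, hc]
    exact Ideal.comap_bot_of_injective _ hH.algebraMap_injective)
  rw [injective_iff_map_eq_zero]
  intro x hx
  have : x ∈ P.comap (algebraMap H C) := by rw [Ideal.mem_comap, hx]; exact zero_mem _
  exact (Submodule.mem_bot H).mp (h0.ge this)

/-- One prime above a closed point with trivial or radicial residue field. -/
theorem prime_unique {H T A' : Type u} [CommRing H] [IsLocalRing H] [IsSepClosed (ResidueField H)]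
    [CommRing T] [Algebra H T] [Algebra.FiniteType H T] (Q : Ideal T) [Q.IsMaximal] [Q.LiesOver (maximalIdeal H)]
    [CommRing A'] [IsLocalRing A'] [Algebra H A'] [IsLocalHom (algebraMap H A')]
    (P₁ P₂ : Ideal (A' ⊗[H] T)) [P₁.IsPrime] [P₂.IsPrime]
    (h₁ : P₁.comap (algebraMap T (A' ⊗[H] T)) = Q) (h₁' : P₁.comap (algebraMap A' (A' ⊗[H] T)) = maximalIdeal A')
    (h₂ : P₂.comap (algebraMap T (A' ⊗[H] T)) = Q) (h₂' : P₂.comap (algebraMap A' (A' ⊗[H] T)) = maximalIdeal A') :
    P₁ = P₂ := by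
  let k := ResidueField H
  letI : Field (T ⧸ Q) := Ideal.Quotient.field Q
  let j : k →+* T ⧸ Q := Ideal.Quotient.lift (maximalIdeal H) (algebraMap H (T ⧸ Q)) fun a ha => by
    rw [IsScalarTower.algebraMap_apply H T (T ⧸ Q), Ideal.Quotient.algebraMap_eq, Ideal.Quotient.eq_zero_iff_mem]
    exact (Q.over_def (maximalIdeal H)).le ha
  letI : Algebra k (T ⧸ Q) := j.toAlgebra
  haveI : IsScalarTower H k (T ⧸ Q) := IsScalarTower.of_algebraMap_eq fun a => rfl
  haveI : Algebra.FiniteType k (T ⧸ Q) := Algebra.FiniteType.of_restrictScalars_finiteType H k (T ⧸ Q)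
  haveI : Module.Finite k (T ⧸ Q) := finite_of_finite_type_of_isJacobsonRing k (T ⧸ Q)
  haveI : IsPurelyInseparable k (T ⧸ Q) := inferInstance
  let q := ringExpChar k
  have key : ∀ z : A' ⊗[H] T, ∃ (n : ℕ) (a : A'), ∀ (P : Ideal (A' ⊗[H] T)), P.IsPrime →
      P.comap (algebraMap T (A' ⊗[H] T)) = Q → P.comap (algebraMap A' (A' ⊗[H] T)) = maximalIdeal A' →
      z ^ (q ^ n) - algebraMap A' (A' ⊗[H] T) a ∈ P := by
    intro z
    induction z using TensorProduct.induction_on with
    | zero => exact ⟨0, 0, fun P _ _ _ => by simp⟩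
    | tmul a s =>
      obtain ⟨n, c, hc⟩ := IsPurelyInseparable.pow_mem k q (Ideal.Quotient.mk Q s)
      obtain ⟨c, rfl⟩ := Ideal.Quotient.mk_surjective c
      refine ⟨n, a ^ q ^ n * algebraMap H A' c, fun P hP hPQ hPm => ?_⟩
      have hc' : s ^ q ^ n - algebraMap H T c ∈ Q := by
        rw [← Ideal.Quotient.eq_zero_iff_mem, map_sub, map_pow, sub_eq_zero, ← hc]
        rfl
      rw [← hPQ, Ideal.mem_comap] at hc'
      have h3 := P.mul_mem_left (algebraMap A' (A' ⊗[H] T) (a ^ q ^ n)) hc'
      have e : algebraMap A' (A' ⊗[H] T) (algebraMap H A' c) = algebraMap T (A' ⊗[H] T) (algebraMap H T c) :=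
        Algebra.TensorProduct.tmul_one_eq_one_tmul c
      convert h3 using 1
      rw [map_mul, e, map_sub, mul_sub, map_pow, map_pow, ← mul_pow]
      congr 2
      show a ⊗ₜ[H] s = (a ⊗ₜ[H] (1 : T)) * ((1 : A') ⊗ₜ[H] s)
      rw [Algebra.TensorProduct.tmul_mul_tmul, mul_one, one_mul]
    | add x y hx hy =>
      obtain ⟨n, a, ha⟩ := hx
      obtain ⟨m, b, hb⟩ := hy
      refine ⟨n + m, a ^ q ^ m + b ^ q ^ n, fun P hP hPQ hPm => ?_⟩
      let π := Ideal.Quotient.mk P
      haveI : IsDomain ((A' ⊗[H] T) ⧸ P) := Ideal.Quotient.isDomain P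
      let f : k →+* (A' ⊗[H] T) ⧸ P := Ideal.Quotient.lift (maximalIdeal H) (algebraMap H _) fun c hc => by
        rw [IsScalarTower.algebraMap_apply H (A' ⊗[H] T), Ideal.Quotient.algebraMap_eq, Ideal.Quotient.eq_zero_iff_mem,
          IsScalarTower.algebraMap_apply H A' (A' ⊗[H] T), ← Ideal.mem_comap, hPm]
        exact map_nonunit (algebraMap H A') c hc
      haveI : ExpChar ((A' ⊗[H] T) ⧸ P) q := expChar_of_injective_ringHom f.injective q
      have h1 : π x ^ q ^ n = π (algebraMap A' _ a) := by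
        rw [← map_pow]; exact Ideal.Quotient.eq.mpr (ha P hP hPQ hPm)
      have h2 : π y ^ q ^ m = π (algebraMap A' _ b) := by
        rw [← map_pow]; exact Ideal.Quotient.eq.mpr (hb P hP hPQ hPm)
      rw [← Ideal.Quotient.eq_zero_iff_mem, map_sub, sub_eq_zero, map_pow, map_add, add_pow_expChar_pow,
        map_add, map_add, map_pow, map_pow, map_pow, map_pow]
      congr 1
      · rw [← h1, pow_add, pow_mul]
      · rw [← h2, add_comm n m, pow_add, pow_mul]
  have hq : 0 < q := expChar_pos k q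
  ext z
  obtain ⟨n, a, ha⟩ := key z
  have aux : ∀ (P : Ideal (A' ⊗[H] T)), P.IsPrime → P.comap (algebraMap T (A' ⊗[H] T)) = Q →
      P.comap (algebraMap A' (A' ⊗[H] T)) = maximalIdeal A' → (z ∈ P ↔ a ∈ maximalIdeal A') := by
    intro P hP hPQ hPm
    rw [← hP.pow_mem_iff_mem (q ^ n) (Nat.pow_pos hq), ← hPm, Ideal.mem_comap]
    have h0 := ha P hP hPQ hPm
    exact ⟨fun hz => by simpa using P.sub_mem hz h0, fun hz => by simpa using P.add_mem h0 hz⟩
  exact (aux P₁ inferInstance h₁ h₁').trans (aux P₂ inferInstance h₂ h₂').symm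

/-- A prime flat over a point of the closed fibre gives a closed point of the fibre with a flat prime above. -/
theorem exists_maximal_flat {A A' B : Type u} [CommRing A] [IsLocalRing A] [CommRing A'] [IsLocalRing A']
    [Algebra A A'] [IsLocalHom (algebraMap A A')] [CommRing B] [Algebra A B] [Algebra.FinitePresentation A B]
    (q : Ideal B) [q.IsPrime] [q.LiesOver (maximalIdeal A)] (P : Ideal (A' ⊗[A] B)) [P.IsPrime]
    (hPq : P.comap (algebraMap B (A' ⊗[A] B)) = q) (hPm : P.comap (algebraMap A' (A' ⊗[A] B)) = maximalIdeal A')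
    (hP : FlatCA.FlatAt A' P (A' ⊗[A] B)) :
    ∃ (y : Ideal B) (P' : Ideal (A' ⊗[A] B)) (_ : y.IsMaximal) (_ : P'.IsPrime), q ≤ y ∧
      P'.comap (algebraMap B (A' ⊗[A] B)) = y ∧ P'.comap (algebraMap A' (A' ⊗[A] B)) = maximalIdeal A' ∧
      FlatCA.FlatAt A' P' (A' ⊗[A] B) := by
  let k := ResidueField A
  let K := ResidueField A'
  let C := B ⧸ q
  let j : k →+* C := Ideal.Quotient.lift (maximalIdeal A) (algebraMap A C) fun a ha => by
    rw [IsScalarTower.algebraMap_apply A B C, Ideal.Quotient.algebraMap_eq, Ideal.Quotient.eq_zero_iff_mem]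
    exact (q.over_def (maximalIdeal A)).le ha
  letI : Algebra k C := j.toAlgebra
  haveI : IsScalarTower A k C := IsScalarTower.of_algebraMap_eq fun a => rfl
  haveI : IsScalarTower A k K := IsScalarTower.of_algebraMap_eq fun a => rfl
  haveI : Algebra.FiniteType k C := Algebra.FiniteType.of_restrictScalars_finiteType A k C
  haveI : IsJacobsonRing C := isJacobsonRing_of_finiteType (A := k)
  let θ : A' ⊗[A] B →ₐ[A] C ⊗[k] K := Algebra.TensorProduct.lift
    (((Algebra.TensorProduct.includeRight (R := k) (A := C) (B := K)).restrictScalars A).comp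
      (IsScalarTower.toAlgHom A A' K))
    (((Algebra.TensorProduct.includeLeft (R := k) (S := k) (A := C) (B := K)).restrictScalars A).comp (Ideal.Quotient.mkₐ A q))
    fun _ _ => Commute.all _ _
  have hθ₁ : ∀ a : A', θ (algebraMap A' _ a) = (1 : C) ⊗ₜ[k] algebraMap A' K a := fun a => by
    show θ (a ⊗ₜ[A] (1 : B)) = _
    simp [θ, Algebra.TensorProduct.one_def]
  have hθ₂ : ∀ b : B, θ (algebraMap B _ b) = Ideal.Quotient.mk q b ⊗ₜ[k] (1 : K) := fun b => by
    show θ ((1 : A') ⊗ₜ[A] b) = _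
    simp [θ]
    rfl
  obtain ⟨U, hU, hUflat, hPU⟩ : ∃ U : Set (PrimeSpectrum (A' ⊗[A] B)), IsOpen U ∧
      (∀ x ∈ U, FlatCA.FlatAt A' x.asIdeal (A' ⊗[A] B)) ∧ (⟨P, inferInstance⟩ : PrimeSpectrum _) ∈ U :=
    ⟨_, Groth.Agent.FlatOpen.isOpen_flatLocus A' (A' ⊗[A] B) (A' ⊗[A] B), fun x hx => hx, hP⟩
  have hsurj : Function.Surjective θ := by
    intro w
    induction w using TensorProduct.induction_on with
    | zero => exact ⟨0, map_zero _⟩
    | tmul c a =>
      obtain ⟨a, rfl⟩ := residue_surjective a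
      obtain ⟨c, rfl⟩ := Ideal.Quotient.mk_surjective c
      exact ⟨a ⊗ₜ[A] c, by simp [θ]; rfl⟩
    | add x y hx hy =>
      obtain ⟨a, ha⟩ := hx
      obtain ⟨b, hb⟩ := hy
      exact ⟨a + b, by rw [map_add, ha, hb]⟩
  have hker : RingHom.ker θ.toRingHom ≤ P := by
    let ρ : A' ⊗[A] B →+* (A' ⊗[A] B) ⧸ P := Ideal.Quotient.mk P
    let ρK : K →+* (A' ⊗[A] B) ⧸ P := Ideal.Quotient.lift (maximalIdeal A') (ρ.comp (algebraMap A' _)) fun a ha =>
      Ideal.Quotient.eq_zero_iff_mem.mpr (Ideal.mem_comap.mp (hPm.ge ha))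
    let ρC : C →+* (A' ⊗[A] B) ⧸ P := Ideal.Quotient.lift q (ρ.comp (algebraMap B _)) fun b hb =>
      Ideal.Quotient.eq_zero_iff_mem.mpr (Ideal.mem_comap.mp (hPq.ge hb))
    letI : Algebra k ((A' ⊗[A] B) ⧸ P) := (ρK.comp (algebraMap k K)).toAlgebra
    let ρK' : K →ₐ[k] (A' ⊗[A] B) ⧸ P := { ρK with commutes' := fun _ => rfl }
    have hρC : ∀ c : k, ρC (algebraMap k C c) = ρK (algebraMap k K c) := fun c => by
      obtain ⟨c, rfl⟩ := residue_surjective c
      exact congrArg ρ (Algebra.TensorProduct.tmul_one_eq_one_tmul (A := A') (B := B) c).symm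
    let ρC' : C →ₐ[k] (A' ⊗[A] B) ⧸ P := { ρC with commutes' := hρC }
    let L := Algebra.TensorProduct.lift ρC' ρK' fun _ _ => Commute.all _ _
    intro x hx
    have : ∀ y, L (θ y) = ρ y := by
      intro y
      induction y using TensorProduct.induction_on with
      | zero => simp
      | tmul a b =>
        simp only [θ, L, Algebra.TensorProduct.lift_tmul]
        simp only [θ, L, Algebra.TensorProduct.lift_tmul, AlgHom.comp_apply, AlgHom.restrictScalars_apply,
          Algebra.TensorProduct.includeRight_apply, Algebra.TensorProduct.includeLeft_apply, map_mul, map_one, one_mul, mul_one]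
        show ρ (algebraMap A' _ a) * ρ (algebraMap B _ b) = ρ (a ⊗ₜ[A] b)
        rw [← map_mul]
        congr 1
        show (a ⊗ₜ[A] (1 : B)) * ((1 : A') ⊗ₜ[A] b) = _
        rw [Algebra.TensorProduct.tmul_mul_tmul, mul_one, one_mul]
      | add a b ha hb => rw [map_add, map_add, map_add, ha, hb]
    rw [RingHom.mem_ker, AlgHom.toRingHom_eq_coe, RingHom.coe_coe] at hx
    exact Ideal.Quotient.eq_zero_iff_mem.mp (by rw [← this, hx, map_zero])
  haveI hP0 : (P.map θ.toRingHom).IsPrime := Ideal.map_isPrime_of_surjective hsurj hker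
  have hP0c : (P.map θ.toRingHom).comap θ.toRingHom = P := by
    rw [Ideal.comap_map_of_surjective θ.toRingHom hsurj, ← RingHom.ker_eq_comap_bot]
    exact sup_eq_left.mpr hker
  let O := PrimeSpectrum.comap θ.toRingHom ⁻¹' U
  have hO : IsOpen O := hU.preimage (PrimeSpectrum.continuous_comap _)
  have hne : ((PrimeSpectrum.comap (algebraMap C (C ⊗[k] K))) '' O).Nonempty := by
    refine ⟨_, ⟨⟨P.map θ.toRingHom, hP0⟩, ?_, rfl⟩⟩
    show PrimeSpectrum.comap θ.toRingHom _ ∈ U
    have e : PrimeSpectrum.comap θ.toRingHom ⟨P.map θ.toRingHom, hP0⟩ = ⟨P, inferInstance⟩ := PrimeSpectrum.ext hP0c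
    rw [e]
    exact hPU
  have hopen : IsOpen ((PrimeSpectrum.comap (algebraMap C (C ⊗[k] K))) '' O) :=
    PrimeSpectrum.isOpenMap_comap_algebraMap_tensorProduct_of_field O hO
  obtain ⟨y, hy, hyc⟩ := nonempty_inter_closedPoints hne hopen.isLocallyClosed
  obtain ⟨w, hw, rfl⟩ := hy
  rw [mem_closedPoints_iff, PrimeSpectrum.isClosed_singleton_iff_isMaximal] at hyc
  haveI := hyc
  refine ⟨((PrimeSpectrum.comap (algebraMap C (C ⊗[k] K)) w).asIdeal).comap (Ideal.Quotient.mk q),
    w.asIdeal.comap θ.toRingHom, Ideal.comap_isMaximal_of_surjective _ Ideal.Quotient.mk_surjective,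
    Ideal.comap_isPrime _ _, fun b hb => ?_, ?_, ?_, hUflat _ hw⟩
  · rw [Ideal.mem_comap, Ideal.Quotient.eq_zero_iff_mem.mpr hb]
    exact zero_mem _
  · ext b
    show θ (algebraMap B _ b) ∈ w.asIdeal ↔ algebraMap C _ (Ideal.Quotient.mk q b) ∈ w.asIdeal
    rw [hθ₂]
    exact Iff.rfl
  · refine IsLocalRing.eq_maximalIdeal ?_
    have h1 : (w.asIdeal.comap θ.toRingHom).comap (algebraMap A' (A' ⊗[A] B)) =
        (w.asIdeal.comap (Algebra.TensorProduct.includeRight (R := k) (A := C) (B := K)).toRingHom).comap (algebraMap A' K) := by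
      ext a
      show θ (algebraMap A' _ a) ∈ w.asIdeal ↔ (1 : C) ⊗ₜ[k] algebraMap A' K a ∈ w.asIdeal
      rw [hθ₁]
    rw [h1]
    haveI : (w.asIdeal.comap (Algebra.TensorProduct.includeRight (R := k) (A := C) (B := K)).toRingHom).IsMaximal := by
      have hp := Ideal.comap_isPrime (Algebra.TensorProduct.includeRight (R := k) (A := C) (B := K)).toRingHom w.asIdeal
      rcases Ideal.eq_bot_or_top (w.asIdeal.comap (Algebra.TensorProduct.includeRight (R := k) (A := C) (B := K)).toRingHom) with h | h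
      · rw [h]; exact Ideal.bot_isMaximal
      · exact absurd h hp.ne_top
    exact Ideal.comap_isMaximal_of_surjective _ residue_surjective

end Groth.Agent.FlatUnib
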